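import Mathlib

/-!
# S5745, row `O_7(3) < 2E6(2)` (helper438 for helper948): a subgroup of `A_8` that embeds into `S_4` meets some conjugate
trivially
-/

set_option autoImplicit false

namespace Cfsg.Agent.H438.EPX.AEight

open Equiv Equiv.Perm

abbrev A8 := ↥(alternatingGroup (Fin 8))

/-- the elements of `A_8` commuting with `x` -/
abbrev Cm (x : Perm (Fin 8)) : Type := {c : A8 // (c : Perm (Fin 8)) * x = x * c}

theorem two_mul_card (x z : Perm (Fin 8)) (hz : z * x = x * z) (hs : sign z = -1) :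
    2 * Nat.card (Cm x) ≤ Nat.card (Subgroup.centralizer ({x} : Set (Perm (Fin 8)))) := by
  have h1 : Nat.card (Bool × Cm x) ≤ Nat.card (Subgroup.centralizer ({x} : Set (Perm (Fin 8)))) := by
    refine Nat.card_le_card_of_injective (fun p => ⟨(if p.1 then z else 1) * p.2.1.1, ?_⟩) ?_
    · rw [Subgroup.mem_centralizer_singleton_iff]
      have h2 := p.2.2
      rcases p.1 with _ | _
      · simpa using h2
      · simp only [if_true]
        rw [mul_assoc, h2, ← mul_assoc, hz, mul_assoc]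
    · rintro ⟨b, c⟩ ⟨b', c'⟩ h
      have h2 : (if b then z else 1) * (c.1 : Perm (Fin 8)) = (if b' then z else 1) * (c'.1 : Perm (Fin 8)) :=
        congrArg Subtype.val h
      have h3 := congrArg sign h2
      have hc : sign (c.1 : Perm (Fin 8)) = 1 := mem_alternatingGroup.1 c.1.2
      have hc' : sign (c'.1 : Perm (Fin 8)) = 1 := mem_alternatingGroup.1 c'.1.2
      rw [map_mul, map_mul, hc, hc', mul_one, mul_one] at h3
      have hb : b = b' := by
        rcases b with _ | _ <;> rcases b' with _ | _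
        · rfl
        · simp [hs] at h3
        · simp [hs] at h3
        · rfl
      subst hb
      have h4 : (c.1 : Perm (Fin 8)) = c'.1 := mul_left_cancel h2
      have h5 : c = c' := Subtype.ext (Subtype.ext h4)
      rw [h5]
  rwa [Nat.card_prod, Nat.card_eq_fintype_card (α := Bool), Fintype.card_bool] at h1

theorem card_cent_22 {x : Perm (Fin 8)} (h : x.cycleType = Multiset.replicate 2 2) :
    Nat.card (Subgroup.centralizer ({x} : Set (Perm (Fin 8)))) = 192 := by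
  rw [nat_card_centralizer, h]; decide

theorem card_cent_2222 {x : Perm (Fin 8)} (h : x.cycleType = Multiset.replicate 4 2) :
    Nat.card (Subgroup.centralizer ({x} : Set (Perm (Fin 8)))) = 384 := by
  rw [nat_card_centralizer, h]; decide

theorem card_cent_3 {x : Perm (Fin 8)} (h : x.cycleType = Multiset.replicate 1 3) :
    Nat.card (Subgroup.centralizer ({x} : Set (Perm (Fin 8)))) = 360 := by
  rw [nat_card_centralizer, h]; decide

theorem card_cent_33 {x : Perm (Fin 8)} (h : x.cycleType = Multiset.replicate 2 3) :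
    Nat.card (Subgroup.centralizer ({x} : Set (Perm (Fin 8)))) = 36 := by
  rw [nat_card_centralizer, h]; decide

theorem type_two {x : Perm (Fin 8)} (h1 : x ≠ 1) (h2 : x * x = 1) (hs : sign x = 1) :
    x.cycleType = Multiset.replicate 2 2 ∨ x.cycleType = Multiset.replicate 4 2 := by
  have ho : orderOf x = 2 := orderOf_eq_prime (by rw [pow_two, h2]) h1
  obtain ⟨n, hn⟩ := cycleType_prime_order (σ := x) (by rw [ho]; exact Nat.prime_two)
  rw [ho] at hn
  have h3 : x.cycleType.sum ≤ 8 := by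
    rw [sum_cycleType]
    exact (Finset.card_le_univ _).trans (by simp)
  have h4 := sign_of_cycleType x
  rw [hs, hn] at h4
  rw [hn, Multiset.sum_replicate, smul_eq_mul] at h3
  rw [Multiset.sum_replicate, Multiset.card_replicate, smul_eq_mul] at h4
  have h5 : n ≤ 3 := by omega
  rw [hn]
  interval_cases h6 : n
  · exact absurd h4 (by decide)
  · exact Or.inl rfl
  · exact absurd h4 (by decide)
  · exact Or.inr rfl

theorem type_three {x : Perm (Fin 8)} (h1 : x ≠ 1) (h3 : x ^ 3 = 1) :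
    x.cycleType = Multiset.replicate 1 3 ∨ x.cycleType = Multiset.replicate 2 3 := by
  have ho : orderOf x = 3 := orderOf_eq_prime h3 h1
  obtain ⟨n, hn⟩ := cycleType_prime_order (σ := x) (by rw [ho]; exact Nat.prime_three)
  rw [ho] at hn
  have h3 : x.cycleType.sum ≤ 8 := by
    rw [sum_cycleType]
    exact (Finset.card_le_univ _).trans (by simp)
  rw [hn, Multiset.sum_replicate, smul_eq_mul] at h3
  have h5 : n ≤ 1 := by omega
  rw [hn]
  interval_cases h6 : n
  · exact Or.inl rfl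
  · exact Or.inr rfl

theorem cm_two_of (x : Perm (Fin 8)) (h1 : x ≠ 1) (h2 : x * x = 1) :
    2 * Nat.card (Cm x) ≤ Nat.card (Subgroup.centralizer ({x} : Set (Perm (Fin 8)))) := by
  obtain ⟨a, ha⟩ : ∃ a, x a ≠ a := by
    by_contra hc
    push Not at hc
    exact h1 (Equiv.ext hc)
  refine two_mul_card x (swap a (x a)) ?_ (sign_swap ha.symm)
  have h3 : x (x a) = a := by rw [← Perm.mul_apply, h2, Perm.one_apply]
  rw [mul_swap_eq_swap_mul, h3, swap_comm]

theorem cm_three_of (x : Perm (Fin 8)) (h1 : x ≠ 1) (h3 : x ^ 3 = 1) :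
    2 * Nat.card (Cm x) ≤ Nat.card (Subgroup.centralizer ({x} : Set (Perm (Fin 8)))) := by
  have h4 : x.support.card ≤ 6 := by
    rw [← sum_cycleType]
    rcases type_three h1 h3 with h | h <;> rw [h] <;> decide
  have h5 : 1 < (x.supportᶜ).card := by
    rw [Finset.card_compl, Fintype.card_fin]
    omega
  obtain ⟨a, ha, b, hb, hab⟩ := Finset.one_lt_card.1 h5
  rw [Finset.mem_compl, notMem_support] at ha hb
  refine two_mul_card x (swap a b) ?_ (sign_swap hab)
  rw [mul_swap_eq_swap_mul, ha, hb]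

/-- `x ≠ 1`, `x ^ 2 = 1` -/
theorem cm_two {x : Perm (Fin 8)} (h1 : x ≠ 1) (h2 : x * x = 1) (hs : sign x = 1) : Nat.card (Cm x) ≤ 192 := by
  have h := cm_two_of x h1 h2
  rcases type_two h1 h2 hs with h3 | h3
  · rw [card_cent_22 h3] at h; omega
  · rw [card_cent_2222 h3] at h; omega

/-- with a fixed point -/
theorem cm_two_fix {x : Perm (Fin 8)} (h1 : x ≠ 1) (h2 : x * x = 1) (hs : sign x = 1) (hf : ∃ i, x i = i) :
    Nat.card (Cm x) ≤ 96 := by
  have h := cm_two_of x h1 h2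
  rcases type_two h1 h2 hs with h3 | h3
  · rw [card_cent_22 h3] at h; omega
  · exfalso
    have h4 := sum_cycleType x
    rw [h3] at h4
    have h5 : x.support = Finset.univ := Finset.card_eq_iff_eq_univ _ |>.1 (by rw [← h4]; decide)
    obtain ⟨i, hi⟩ := hf
    have h6 : i ∈ x.support := by rw [h5]; exact Finset.mem_univ i
    exact mem_support.1 h6 hi

theorem cm_three {x : Perm (Fin 8)} (h1 : x ≠ 1) (h3 : x ^ 3 = 1) : Nat.card (Cm x) ≤ 180 := by
  have h := cm_three_of x h1 h3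
  rcases type_three h1 h3 with h4 | h4
  · rw [card_cent_3 h4] at h; omega
  · rw [card_cent_33 h4] at h; omega

theorem cm_three_no {x : Perm (Fin 8)} (h1 : x ≠ 1) (h3 : x ^ 3 = 1) (h : x.cycleType ≠ Multiset.replicate 1 3) :
    Nat.card (Cm x) ≤ 18 := by
  have h' := cm_three_of x h1 h3
  rcases type_three h1 h3 with h4 | h4
  · exact absurd h4 h
  · rw [card_cent_33 h4] at h'; omega

/-- the elements transporting `y` to `x` -/
theorem card_transp (x y : A8) :
    Nat.card {c : A8 // x * c = c * y} ≤ Nat.card (Cm (x : Perm (Fin 8))) := by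
  rcases isEmpty_or_nonempty {c : A8 // x * c = c * y} with h | ⟨⟨c0, hc0⟩⟩
  · rw [Nat.card_of_isEmpty]; exact Nat.zero_le _
  · refine Nat.card_le_card_of_injective (fun c => ⟨c.1 * c0⁻¹, ?_⟩) fun c c' h => ?_
    · have h1 : c.1 * c0⁻¹ * x = x * (c.1 * c0⁻¹) := by
        have h2 : c0⁻¹ * x = y * c0⁻¹ := by
          rw [inv_mul_eq_iff_eq_mul, ← mul_assoc, ← hc0, mul_assoc, mul_inv_cancel, mul_one]
        rw [mul_assoc, h2, ← mul_assoc, ← c.2, mul_assoc]
      exact congrArg Subtype.val h1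
    · have h1 : c.1 * c0⁻¹ = c'.1 * c0⁻¹ := congrArg (fun z : Cm (x : Perm (Fin 8)) => z.1) h
      exact Subtype.ext (mul_right_cancel h1)

theorem card_A8 : Nat.card A8 = 20160 := by
  have h := two_mul_card_alternatingGroup (α := Fin 8)
  rw [Fintype.card_perm, Fintype.card_fin, ← Nat.card_eq_fintype_card] at h
  have h2 : Nat.factorial 8 = 40320 := by decide
  rw [h2] at h
  have h3 : Nat.card A8 = Nat.card ↥(alternatingGroup (Fin 8)) := rfl
  omega

section main

variable (S : Subgroup A8)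

open Classical in
/-- the elements `≠ 1` of `S` with `g ^ k = 1` -/
noncomputable def El (k : ℕ) : Finset A8 := Finset.univ.filter fun g => g ∈ S ∧ g ≠ 1 ∧ g ^ k = 1

variable {S}

theorem mem_El {k : ℕ} {g : A8} : g ∈ El S k ↔ g ∈ S ∧ g ≠ 1 ∧ g ^ k = 1 := by
  simp [El]

open Classical in
/-- `Θ` extended by `1` -/
noncomputable def mp (Θ : S →* Perm (Fin 4)) (g : A8) : Perm (Fin 4) := if h : g ∈ S then Θ ⟨g, h⟩ else 1

theorem mp_of {Θ : S →* Perm (Fin 4)} {g : A8} (h : g ∈ S) : mp Θ g = Θ ⟨g, h⟩ := by rw [mp, dif_pos h]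

/-- the elements `≠ 1` of `S_4` with `σ ^ k = 1` -/
def F4 (k : ℕ) : Finset (Perm (Fin 4)) := Finset.univ.filter fun σ : Perm (Fin 4) => σ ≠ 1 ∧ σ ^ k = 1

theorem mem_F4 {k : ℕ} {σ : Perm (Fin 4)} : σ ∈ F4 k ↔ σ ≠ 1 ∧ σ ^ k = 1 := by simp [F4]

theorem mp_mem {Θ : S →* Perm (Fin 4)} (hΘ : Function.Injective Θ) (k : ℕ) {g : A8} (hg : g ∈ El S k) :
    mp Θ g ∈ F4 k := by
  obtain ⟨h1, h2, h3⟩ := mem_El.1 hg
  rw [mem_F4, mp_of h1]
  refine ⟨fun h => h2 ?_, ?_⟩
  · have h4 : (⟨g, h1⟩ : S) = 1 := hΘ (by rw [h, map_one])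
    exact congrArg Subtype.val h4
  · rw [← map_pow]
    have h4 : (⟨g, h1⟩ : S) ^ k = 1 := Subtype.ext h3
    rw [h4, map_one]

theorem mp_inj {Θ : S →* Perm (Fin 4)} (hΘ : Function.Injective Θ) (k : ℕ) : Set.InjOn (mp Θ) (El S k) := by
  intro g hg g' hg' h
  obtain ⟨h1, -, -⟩ := mem_El.1 hg
  obtain ⟨h1', -, -⟩ := mem_El.1 hg'
  rw [mp_of h1, mp_of h1'] at h
  exact congrArg Subtype.val (hΘ h)

theorem card_two : (F4 2).card = 9 := by decide

theorem card_three : (F4 3).card = 8 := by decide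

theorem card_El_two {Θ : S →* Perm (Fin 4)} (hΘ : Function.Injective Θ) : (El S 2).card ≤ 9 := by
  rw [← card_two]
  exact Finset.card_le_card_of_injOn (mp Θ) (fun g hg => mp_mem hΘ 2 hg) (mp_inj hΘ 2)

theorem card_El_three {Θ : S →* Perm (Fin 4)} (hΘ : Function.Injective Θ) : (El S 3).card ≤ 8 := by
  rw [← card_three]
  exact Finset.card_le_card_of_injOn (mp Θ) (fun g hg => mp_mem hΘ 3 hg) (mp_inj hΘ 3)

theorem pow_cases : ∀ σ : Perm (Fin 4), σ ^ 2 = 1 ∨ σ ^ 3 = 1 ∨ σ ^ 4 = 1 := by decide +kernel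

theorem klein : ∀ τ : Perm (Fin 4), τ ≠ 1 → τ ^ 3 = 1 → ∃ σ : Perm (Fin 4), (σ ≠ 1 ∧ σ ^ 2 = 1) ∧
    (τ * σ * τ⁻¹ * σ⁻¹ ≠ 1 ∧ (τ * σ * τ⁻¹ * σ⁻¹) ^ 2 = 1) := by decide +kernel

/-- the powers of prime order -/
theorem exists_prime {Θ : S →* Perm (Fin 4)} (hΘ : Function.Injective Θ) {x y c : A8} (hx : x ∈ S) (hy : y ∈ S)
    (hc : x = c * y * c⁻¹) (h1 : x ≠ 1) :
    ∃ j x' y', (j = 2 ∨ j = 3) ∧ x' ∈ El S j ∧ y' ∈ El S j ∧ x' * c = c * y' := by
  have key : ∀ j k : ℕ, x ^ k ≠ 1 → (x ^ k) ^ j = 1 → x ^ k ∈ El S j ∧ y ^ k ∈ El S j ∧ x ^ k * c = c * y ^ k := by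
    intro j k h2 h3
    have h4 : x ^ k = c * y ^ k * c⁻¹ := by rw [hc, conj_pow]
    refine ⟨mem_El.2 ⟨S.pow_mem hx k, h2, h3⟩, mem_El.2 ⟨S.pow_mem hy k, fun h => h2 ?_, ?_⟩, ?_⟩
    · rw [h4, h, mul_one, mul_inv_cancel]
    · have h5 : (x ^ k) ^ j = c * (y ^ k) ^ j * c⁻¹ := by rw [h4, conj_pow]
      rw [h3] at h5
      have h6 : c * (y ^ k) ^ j = c := by
        have := congrArg (· * c) h5
        simpa using this.symm
      exact mul_eq_left.1 h6
    · rw [h4, inv_mul_cancel_right]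
  have hpw : ∀ n : ℕ, Θ ⟨x, hx⟩ ^ n = 1 → x ^ n = 1 := by
    intro n hn
    rw [← map_pow] at hn
    have h2 : (⟨x, hx⟩ : S) ^ n = 1 := hΘ (by rw [hn, map_one])
    exact congrArg Subtype.val h2
  by_cases h2 : x ^ 2 = 1
  · exact ⟨2, x ^ 1, y ^ 1, Or.inl rfl, key 2 1 (by rwa [pow_one]) (by rw [pow_one, h2])⟩
  by_cases h3 : x ^ 3 = 1
  · exact ⟨3, x ^ 1, y ^ 1, Or.inr rfl, key 3 1 (by rwa [pow_one]) (by rw [pow_one, h3])⟩
  have h4 : x ^ 4 = 1 := by
    rcases pow_cases (Θ ⟨x, hx⟩) with h | h | h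
    · exact absurd (hpw 2 h) h2
    · exact absurd (hpw 3 h) h3
    · exact hpw 4 h
  exact ⟨2, x ^ 2, y ^ 2, Or.inl rfl, key 2 2 h2 (by rw [← pow_mul, h4])⟩

/-- fixed point free -/
def Fpf (g : A8) : Prop := ∀ i, (g : Perm (Fin 8)) i ≠ i

theorem fpf_iff {x y c : A8} (h : x * c = c * y) : Fpf x ↔ Fpf y := by
  have h0 : ∀ i, (x : Perm (Fin 8)) ((c : Perm (Fin 8)) i) = (c : Perm (Fin 8)) ((y : Perm (Fin 8)) i) := by
    intro i
    have h1 : (x : Perm (Fin 8)) * c = c * y := congrArg Subtype.val h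
    exact congrArg (fun g : Perm (Fin 8) => g i) h1
  constructor
  · intro hx i hi
    apply hx ((c : Perm (Fin 8)) i)
    rw [h0, hi]
  · intro hy i hi
    apply hy ((c : Perm (Fin 8)).symm i)
    apply (c : Perm (Fin 8)).injective
    rw [← h0, Equiv.apply_symm_apply, hi]

theorem val_ne {g : A8} (h : g ≠ 1) : (g : Perm (Fin 8)) ≠ 1 := fun h' => h (Subtype.ext h')

theorem val_pow {g : A8} {k : ℕ} (h : g ^ k = 1) : (g : Perm (Fin 8)) ^ k = 1 := congrArg Subtype.val h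

theorem val_sign (g : A8) : sign (g : Perm (Fin 8)) = 1 := mem_alternatingGroup.1 g.2

open Classical in
/-- the elements transporting `y` to `x` -/
noncomputable def Tr (x y : A8) : Finset A8 := Finset.univ.filter fun c => x * c = c * y

theorem mem_Tr {x y c : A8} : c ∈ Tr x y ↔ x * c = c * y := by simp [Tr]

theorem card_Tr (x y : A8) : (Tr x y).card ≤ Nat.card (Cm (x : Perm (Fin 8))) := by
  refine le_trans (le_of_eq ?_) (card_transp x y)
  rw [Nat.card_eq_fintype_card, Fintype.card_subtype, Tr]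

open Classical in
/-- an involution of `S` with a fixed point, if `S` contains a 3-cycle and has nine involutions -/
theorem exists_fix {Θ : S →* Perm (Fin 4)} (hΘ : Function.Injective Θ) {t : A8} (ht : t ∈ El S 3)
    (htc : (t : Perm (Fin 8)).cycleType = Multiset.replicate 1 3) (h9 : 9 ≤ (El S 2).card) :
    ∃ g ∈ El S 2, ¬ Fpf g := by
  have himg : (El S 2).image (mp Θ) = F4 2 := by
    refine Finset.eq_of_subset_of_card_le ?_ ?_
    · intro σ hσ
      obtain ⟨g, hg, rfl⟩ := Finset.mem_image.1 hσ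
      exact mp_mem hΘ 2 hg
    · rw [Finset.card_image_of_injOn (mp_inj hΘ 2), card_two]
      exact h9
  obtain ⟨htS, ht1, ht3⟩ := mem_El.1 ht
  have hτ := mem_F4.1 (mp_mem hΘ 3 ht)
  obtain ⟨σ, hσ, hw1, hw2⟩ := klein _ hτ.1 hτ.2
  have hσ' : σ ∈ (El S 2).image (mp Θ) := by rw [himg]; exact mem_F4.2 hσ
  obtain ⟨v, hv, hvσ⟩ := Finset.mem_image.1 hσ'
  obtain ⟨hvS, hv1, hv2⟩ := mem_El.1 hv
  rw [mp_of hvS] at hvσ
  rw [mp_of htS, ← hvσ] at hw1 hw2
  have hwS : t * v * t⁻¹ * v⁻¹ ∈ S := S.mul_mem (S.mul_mem (S.mul_mem htS hvS) (S.inv_mem htS)) (S.inv_mem hvS)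
  have hΘw : Θ ⟨_, hwS⟩ = Θ ⟨t, htS⟩ * Θ ⟨v, hvS⟩ * (Θ ⟨t, htS⟩)⁻¹ * (Θ ⟨v, hvS⟩)⁻¹ := by
    rw [← map_inv, ← map_inv, ← map_mul, ← map_mul, ← map_mul]
    rfl
  refine ⟨t * v * t⁻¹ * v⁻¹, mem_El.2 ⟨hwS, fun h => hw1 ?_, ?_⟩, ?_⟩
  · rw [← hΘw]
    have h2 : (⟨_, hwS⟩ : S) = 1 := Subtype.ext h
    rw [h2, map_one]
  · rw [← hΘw, ← map_pow] at hw2
    have h2 : (⟨_, hwS⟩ : S) ^ 2 = 1 := hΘ (by rw [hw2, map_one])
    exact congrArg Subtype.val h2
  · intro hf
    have h3 : (t : Perm (Fin 8)).support.card = 3 := by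
      rw [← sum_cycleType, htc]; rfl
    have h4 : ((v : Perm (Fin 8)) * (t : Perm (Fin 8))⁻¹ * (v : Perm (Fin 8))⁻¹).support.card = 3 := by
      rw [card_support_conj, support_inv, h3]
    have h5 : ((t * v * t⁻¹ * v⁻¹ : A8) : Perm (Fin 8)) =
        (t : Perm (Fin 8)) * ((v : Perm (Fin 8)) * (t : Perm (Fin 8))⁻¹ * (v : Perm (Fin 8))⁻¹) := by
      push_cast
      group
    have h6 : ((t * v * t⁻¹ * v⁻¹ : A8) : Perm (Fin 8)).support.card ≤ 6 := by
      rw [h5]
      refine (Finset.card_le_card (support_mul_le _ _)).trans ?_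
      refine (Finset.card_union_le _ _).trans ?_
      omega
    have h7 : ((t * v * t⁻¹ * v⁻¹ : A8) : Perm (Fin 8)).support = Finset.univ := by
      ext i
      simp only [Finset.mem_univ, iff_true]
      exact mem_support.2 (hf i)
    rw [h7] at h6
    simp at h6

open Classical in
theorem card_bad {K : ℕ} (hK : ∀ x ∈ El S 3, Nat.card (Cm (x : Perm (Fin 8))) ≤ K) :
    (Finset.univ.filter fun c : A8 => ∃ x ∈ El S 3, ∃ y ∈ El S 3, x * c = c * y).card * 2 ≤
      (El S 3).card * (El S 3).card * K := by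
  rw [← Finset.card_product]
  refine Finset.card_mul_le_card_mul (fun (c : A8) (p : A8 × A8) => p.1 * c = c * p.2) ?_ ?_
  · intro c hc
    obtain ⟨x, hx, y, hy, hxy⟩ := (Finset.mem_filter.1 hc).2
    obtain ⟨hxS, hx1, hx3⟩ := mem_El.1 hx
    obtain ⟨hyS, hy1, hy3⟩ := mem_El.1 hy
    have hinv : ∀ {g : A8}, g ∈ El S 3 → g⁻¹ ∈ El S 3 := by
      intro g hg
      obtain ⟨h1, h2, h3⟩ := mem_El.1 hg
      exact mem_El.2 ⟨S.inv_mem h1, inv_ne_one.2 h2, by rw [inv_pow, h3, inv_one]⟩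
    refine Finset.one_lt_card.2 ⟨(x, y), ?_, (x⁻¹, y⁻¹), ?_, ?_⟩
    · rw [Finset.mem_bipartiteAbove]
      exact ⟨Finset.mem_product.2 ⟨hx, hy⟩, hxy⟩
    · rw [Finset.mem_bipartiteAbove]
      refine ⟨Finset.mem_product.2 ⟨hinv hx, hinv hy⟩, ?_⟩
      change x⁻¹ * c = c * y⁻¹
      rw [inv_mul_eq_iff_eq_mul, ← mul_assoc, hxy, mul_assoc, mul_inv_cancel, mul_one]
    · intro h
      have h1 : x = x⁻¹ := congrArg Prod.fst h
      apply hx1
      have h2 : x * x = 1 := by
        nth_rewrite 2 [h1]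
        exact mul_inv_cancel x
      have h3 : x ^ 3 = x := by rw [pow_succ, pow_two, h2, one_mul]
      rw [← h3, hx3]
  · intro p hp
    obtain ⟨h1, h2⟩ := Finset.mem_product.1 hp
    refine le_trans (Finset.card_le_card ?_) ((card_Tr p.1 p.2).trans (hK _ h1))
    intro c hc
    rw [Finset.mem_bipartiteBelow] at hc
    exact mem_Tr.2 hc.2

open Classical in
/-- **a subgroup of `A_8` isomorphic to a subgroup of `S_4` meets some conjugate trivially** -/
theorem main {Θ : S →* Perm (Fin 4)} (hΘ : Function.Injective Θ) :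
    ∃ c : A8, ∀ x ∈ S, ∀ y ∈ S, x = c * y * c⁻¹ → x = 1 := by
  by_contra hcon
  push Not at hcon
  have hA := card_A8
  rw [Nat.card_eq_fintype_card, ← Finset.card_univ] at hA
  have hcov : (Finset.univ : Finset A8) ⊆
      ((((El S 2).filter Fpf) ×ˢ ((El S 2).filter Fpf)).biUnion fun p => Tr p.1 p.2) ∪
      ((((El S 2).filter fun g => ¬ Fpf g) ×ˢ ((El S 2).filter fun g => ¬ Fpf g)).biUnion fun p => Tr p.1 p.2) ∪
      (Finset.univ.filter fun c : A8 => ∃ x ∈ El S 3, ∃ y ∈ El S 3, x * c = c * y) := by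
    intro c _
    obtain ⟨x, hx, y, hy, hc, h1⟩ := hcon c
    obtain ⟨j, x', y', hj, hx', hy', hxy⟩ := exists_prime hΘ hx hy hc h1
    rcases hj with rfl | rfl
    · rw [Finset.mem_union, Finset.mem_union]
      left
      by_cases hf : Fpf x'
      · left
        exact Finset.mem_biUnion.2 ⟨(x', y'), Finset.mem_product.2 ⟨Finset.mem_filter.2 ⟨hx', hf⟩,
          Finset.mem_filter.2 ⟨hy', (fpf_iff hxy).1 hf⟩⟩, mem_Tr.2 hxy⟩
      · right
        exact Finset.mem_biUnion.2 ⟨(x', y'), Finset.mem_product.2 ⟨Finset.mem_filter.2 ⟨hx', hf⟩,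
          Finset.mem_filter.2 ⟨hy', fun h => hf ((fpf_iff hxy).2 h)⟩⟩, mem_Tr.2 hxy⟩
    · rw [Finset.mem_union]
      right
      exact Finset.mem_filter.2 ⟨Finset.mem_univ _, x', hx', y', hy', hxy⟩
  have h0 := Finset.card_le_card hcov
  have h1 := (Finset.card_union_le (((((El S 2).filter Fpf) ×ˢ ((El S 2).filter Fpf)).biUnion fun p => Tr p.1 p.2) ∪
      ((((El S 2).filter fun g => ¬ Fpf g) ×ˢ ((El S 2).filter fun g => ¬ Fpf g)).biUnion fun p => Tr p.1 p.2))
      (Finset.univ.filter fun c : A8 => ∃ x ∈ El S 3, ∃ y ∈ El S 3, x * c = c * y))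
  have h2 := (Finset.card_union_le ((((El S 2).filter Fpf) ×ˢ ((El S 2).filter Fpf)).biUnion fun p => Tr p.1 p.2)
      ((((El S 2).filter fun g => ¬ Fpf g) ×ˢ ((El S 2).filter fun g => ¬ Fpf g)).biUnion fun p => Tr p.1 p.2))
  have h3 : ((((El S 2).filter Fpf) ×ˢ ((El S 2).filter Fpf)).biUnion fun p => Tr p.1 p.2).card ≤
      (((El S 2).filter Fpf) ×ˢ ((El S 2).filter Fpf)).card * 192 := by
    refine Finset.card_biUnion_le_card_mul _ _ _ fun p hp => ?_
    obtain ⟨hp1, -⟩ := Finset.mem_product.1 hp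
    obtain ⟨-, h5, h6⟩ := mem_El.1 (Finset.mem_filter.1 hp1).1
    exact (card_Tr p.1 p.2).trans (cm_two (val_ne h5) (by rw [← pow_two]; exact val_pow h6) (val_sign _))
  have h4 : ((((El S 2).filter fun g => ¬ Fpf g) ×ˢ ((El S 2).filter fun g => ¬ Fpf g)).biUnion
      fun p => Tr p.1 p.2).card ≤
      (((El S 2).filter fun g => ¬ Fpf g) ×ˢ ((El S 2).filter fun g => ¬ Fpf g)).card * 96 := by
    refine Finset.card_biUnion_le_card_mul _ _ _ fun p hp => ?_
    obtain ⟨hp1, -⟩ := Finset.mem_product.1 hp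
    obtain ⟨-, h5, h6⟩ := mem_El.1 (Finset.mem_filter.1 hp1).1
    have h7 := (Finset.mem_filter.1 hp1).2
    refine (card_Tr p.1 p.2).trans (cm_two_fix (val_ne h5) (by rw [← pow_two]; exact val_pow h6) (val_sign _) ?_)
    by_contra hc
    push Not at hc
    exact h7 hc
  rw [Finset.card_product] at h3 h4
  have h5 := Finset.card_filter_add_card_filter_not (s := El S 2) (p := Fpf)
  have h6 := card_El_two hΘ
  have h7 := card_El_three hΘ
  rw [hA] at h0
  generalize ((((El S 2).filter Fpf) ×ˢ ((El S 2).filter Fpf)).biUnion fun p => Tr p.1 p.2) = U0 at *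
  generalize ((((El S 2).filter fun g => ¬ Fpf g) ×ˢ ((El S 2).filter fun g => ¬ Fpf g)).biUnion
      fun p => Tr p.1 p.2) = U1 at *
  by_cases hex : ∃ t ∈ El S 3, (t : Perm (Fin 8)).cycleType = Multiset.replicate 1 3
  · have h8 := card_bad (S := S) (K := 180) fun x hx => by
      obtain ⟨-, h8, h9⟩ := mem_El.1 hx
      exact cm_three (val_ne h8) (val_pow h9)
    have h9 : ((El S 2).filter Fpf).card ≤ 8 := by
      by_contra hc
      obtain ⟨t, ht, htc⟩ := hex
      obtain ⟨g, hg, hgf⟩ := exists_fix hΘ ht htc (by omega)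
      have h10 : 1 ≤ ((El S 2).filter fun g => ¬ Fpf g).card :=
        Finset.card_pos.2 ⟨g, Finset.mem_filter.2 ⟨hg, hgf⟩⟩
      omega
    generalize ((El S 2).filter Fpf).card = a at *
    generalize ((El S 2).filter fun g => ¬ Fpf g).card = b at *
    generalize (Finset.univ.filter fun c : A8 => ∃ x ∈ El S 3, ∃ y ∈ El S 3, x * c = c * y).card = B at *
    have h10 : (El S 3).card * (El S 3).card ≤ 64 := by nlinarith
    have h11 : a * a * 192 + b * b * 96 ≤ 12384 := by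
      have hb : b ≤ 9 - a := by omega
      have hb2 : b * b ≤ (9 - a) * (9 - a) := Nat.mul_le_mul hb hb
      interval_cases a <;> omega
    omega
  · have h8 := card_bad (S := S) (K := 18) fun x hx => by
      obtain ⟨-, h8, h9⟩ := mem_El.1 hx
      exact cm_three_no (val_ne h8) (val_pow h9) fun h => hex ⟨x, hx, h⟩
    have h9 : ((El S 2).filter Fpf).card ≤ 9 := by omega
    generalize ((El S 2).filter Fpf).card = a at *
    generalize ((El S 2).filter fun g => ¬ Fpf g).card = b at *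
    generalize (Finset.univ.filter fun c : A8 => ∃ x ∈ El S 3, ∃ y ∈ El S 3, x * c = c * y).card = B at *
    have h10 : (El S 3).card * (El S 3).card ≤ 64 := by nlinarith
    have h11 : a * a * 192 + b * b * 96 ≤ 15552 := by
      have hb : b ≤ 9 - a := by omega
      have hb2 : b * b ≤ (9 - a) * (9 - a) := Nat.mul_le_mul hb hb
      interval_cases a <;> omega
    omega

end main

/-- **piece (A) of helper948** -/
theorem exists_conj {R : Type*} [Group R] [Finite R] (f : R →* ↥(alternatingGroup (Fin 8))) (ψ : R →* Equiv.Perm (Fin 4))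
    (hk : ∀ r, ψ r = 1 ↔ f r = 1) :
    ∃ c : ↥(alternatingGroup (Fin 8)), ∀ r s : R, f r = c * f s * c⁻¹ → f r = 1 := by
  have hsurj : Function.Surjective f.rangeRestrict := f.rangeRestrict_surjective
  let Θ : f.range →* Perm (Fin 4) := f.rangeRestrict.liftOfSurjective hsurj ⟨ψ, by
    intro r hr
    rw [MonoidHom.mem_ker] at hr ⊢
    exact (hk r).2 (congrArg Subtype.val hr)⟩
  have hΘr : ∀ r, Θ (f.rangeRestrict r) = ψ r := fun r => by
    simp [Θ]
  have hΘ : Function.Injective Θ := by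
    rw [injective_iff_map_eq_one]
    intro a ha
    obtain ⟨r, rfl⟩ := hsurj a
    rw [hΘr] at ha
    exact Subtype.ext ((hk r).1 ha)
  obtain ⟨c, hc⟩ := main hΘ
  exact ⟨c, fun r s h => hc (f r) ⟨r, rfl⟩ (f s) ⟨s, rfl⟩ h⟩

end Cfsg.Agent.H438.EPX.AEight
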